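import Cfsg.Agent.CosetEnum.Fi22Order.Order
import Cfsg.Agent.CosetEnum.Fi22H.Orbits
import Cfsg.Agent.CosetEnum.Fi23Order.Relabel
import Cfsg.Agent.CosetEnum.Fi23H.Action
import Cfsg.Agent.CosetEnum.Fi23O.Bound
import Cfsg.Agent.CosetEnum.Fi23A.Bound
import Cfsg.Agent.CosetEnum.Fi23B.Bound
import Cfsg.Agent.CosetEnum.Fi23C.Bound
import Cfsg.Agent.CosetEnum.Fi23D.Bound
import Cfsg.Agent.CosetEnum.Fi23E.Bound
import Cfsg.Agent.CosetEnum.Fi23F.Bound
import Cfsg.Agent.CosetEnum.Fi23G.Bound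

set_option autoImplicit false
set_option maxRecDepth 100000
set_option exponentiation.threshold 200000

/-!
The order of the presented Fischer group Fi23: the point stabiliser on 31671 cosets has order at most
`2 |Fi22|` by enumeration, acts on an orbit of length 3510 as Fi22, and a non-trivial element fixes
that orbit pointwise.
-/

namespace CfsgLib.CosetEnum.Fi23

open Restrict

/-- The letters of Fi22 as letters of Fi23. -/
def lm (x : ℕ) : ℕ := [0, 1, 2, 3, 4, 5, 6, 8, 9].getD x 0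

/-- The word of the central element of the point stabiliser. -/
def zWord : List ℕ := (List.replicate 9 [1, 2, 3, 4, 5, 6, 7]).flatten

theorem H_eq_letSub : Fi23H.enum.H = setup.letSub Fi23O.enum.L := by
  rw [← setup.closure_localG]
  refine congrArg Subgroup.closure (Set.image_congr fun s hs => ?_)
  have hs' : s < 9 := hs
  interval_cases s <;> simp [prodw, Setup.localG, Fi23H.enum, Fi23H.sW, Fi23O.enum]

theorem g_mem (x : ℕ) (hx : x < 9) : setup.g (lm x) ∈ Fi23H.enum.H := by
  refine Subgroup.subset_closure ⟨x, (show x < Fi23H.enum.sW.length by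
    have : Fi23H.enum.sW.length = 9 := rfl
    omega), ?_⟩
  interval_cases x <;> simp [prodw, lm, Fi23H.enum, Fi23H.sW]

theorem prodw_mem (w : List ℕ) (hw : ∀ x ∈ w, x < 9) :
    prodw setup.g (w.map lm) ∈ Fi23H.enum.H := by
  induction w with
  | nil => exact one_mem _
  | cons a w ih =>
    simp only [prodw, List.map_cons, List.prod_cons]
    exact mul_mem (g_mem a (hw a List.mem_cons_self)) (ih fun x hx => hw x (List.mem_cons_of_mem a hx))

theorem H_finite_and_card_le :
    Finite Fi23H.enum.H ∧ Nat.card Fi23H.enum.H ≤ 2 * 64561751654400 := by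
  have h1 := Fi23G.bound 1 ⟨setup.finite_letSub_nil, setup.card_letSub_nil⟩
  have h2 := Fi23F.bound _ h1
  have h3 := Fi23E.bound _ h2
  have h4 := Fi23D.bound _ h3
  have h5 := Fi23C.bound _ h4
  have h6 := Fi23B.bound _ h5
  have h7 := Fi23A.bound _ h6
  have h8 := Fi23O.bound _ h7
  rw [H_eq_letSub]
  exact ⟨h8.1, h8.2.trans (by decide +kernel)⟩

theorem relabelled (i : Fin 3510) :
    ext Fi23H.piTab i < 31671 ∧ ext Fi23H.ipTab (ext Fi23H.piTab i) = i :=
  relabel_lt (n := 31671) (r := 3510) (show 3510 ≤ 2 ^ 12 by decide) Fi23H.pi_inj i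

/-- The points of the orbit of length 3510. -/
def ι (i : Fin Fi22H.enum.n) : Fin Fi23H.enum.n := ⟨ext Fi23H.piTab i.val, (relabelled i).1⟩

theorem ι_injective : Function.Injective ι := fun i j h => by
  refine Fin.ext ?_
  have hi := (relabelled i).2
  have hj := (relabelled j).2
  have h' : ext Fi23H.piTab i.val = ext Fi23H.piTab j.val := congrArg Fin.val h
  rw [h'] at hi
  exact hi.symm.trans hj

theorem conjTab (x : ℕ) (hx : x < 9) (i : Fin 3510) :
    ext (Fi23H.enum.tb (lm x)) (ext Fi23H.piTab i) = ext Fi23H.piTab (ext (Fi22H.enum.tb x) i) := by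
  have key : allR (conjTabEntry 3510 Fi23H.piTab (Fi23H.enum.tb (lm x)) (Fi22H.enum.tb x)) 12 0 = true := by
    interval_cases x
    exacts [Fi23H.conjTab0, Fi23H.conjTab1, Fi23H.conjTab2, Fi23H.conjTab3, Fi23H.conjTab4,
      Fi23H.conjTab5, Fi23H.conjTab6, Fi23H.conjTab7, Fi23H.conjTab8]
  exact conjTab_spec (r := 3510) (show 3510 ≤ 2 ^ 12 by decide) key i

variable (φ : setup.Grp →* Equiv.Perm (Fin Fi23H.enum.n))
  (hφ : ∀ (w : List ℕ), (∀ x ∈ w, x < setup.k) → ∀ i : Fin Fi23H.enum.n,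
    ((φ (prodw setup.g w))⁻¹ i).val = walk Fi23H.enum.tb w i)
  (φ' : Fi22.setup.Grp →* Equiv.Perm (Fin Fi22H.enum.n))
  (hφ' : ∀ (w : List ℕ), (∀ x ∈ w, x < Fi22.setup.k) → ∀ i : Fin Fi22H.enum.n,
    ((φ' (prodw Fi22.setup.g w))⁻¹ i).val = walk Fi22H.enum.tb w i)

include hφ hφ' in
theorem letter_restricts (x : ℕ) (hx : x < 9) (i : Fin Fi22H.enum.n) :
    φ (setup.g (lm x)) (ι i) = ι (φ' (Fi22.setup.g x) i) := by
  have hl : lm x < setup.k := show lm x < 10 by interval_cases x <;> decide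
  have e1 : φ (setup.g (lm x)) = (φ (prodw setup.g [lm x]))⁻¹ := by
    rw [show prodw setup.g [lm x] = setup.g (lm x) by simp [prodw], ← map_inv, ← setup.hiv _ hl hl]
  have e2 : φ' (Fi22.setup.g x) = (φ' (prodw Fi22.setup.g [x]))⁻¹ := by
    rw [show prodw Fi22.setup.g [x] = Fi22.setup.g x by simp [prodw], ← map_inv,
      ← Fi22.setup.hiv x (show x < Fi22.setup.k from hx) (show x < Fi22.setup.k from hx)]
  refine Fin.ext ?_
  rw [e1, e2, hφ [lm x] (by simpa using hl)]
  show ext (Fi23H.enum.tb (lm x)) (ext Fi23H.piTab i.val) = ext Fi23H.piTab _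
  rw [hφ' [x] (by simpa using (show x < Fi22.setup.k from hx))]
  exact conjTab x hx i

include hφ hφ' in
theorem word_restricts : ∀ (w : List ℕ), (∀ x ∈ w, x < 9) → ∀ i : Fin Fi22H.enum.n,
    φ (prodw setup.g (w.map lm)) (ι i) = ι (φ' (prodw Fi22.setup.g w) i) := by
  intro w
  induction w with
  | nil =>
    intro _ i
    simp [prodw]
  | cons a w ih =>
    intro hw i
    have h1 : prodw setup.g ((a :: w).map lm) = setup.g (lm a) * prodw setup.g (w.map lm) := by
      simp [prodw]
    have h2 : prodw Fi22.setup.g (a :: w) = Fi22.setup.g a * prodw Fi22.setup.g w := by simp [prodw]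
    rw [h1, h2, map_mul, map_mul, Equiv.Perm.mul_apply, Equiv.Perm.mul_apply,
      ih (fun x hx => hw x (List.mem_cons_of_mem a hx)),
      letter_restricts φ hφ φ' hφ' a (hw a List.mem_cons_self)]

include hφ hφ' in
theorem mem_H_restricts (y : setup.Grp) (hy : y ∈ Fi23H.enum.H) :
    ∃ u : Fi22.setup.Grp, ∀ i, φ y (ι i) = ι (φ' u i) := by
  induction hy using Subgroup.closure_induction with
  | mem y hy =>
    obtain ⟨s, hs, rfl⟩ := hy
    have hs' : s < 9 := hs
    refine ⟨Fi22.setup.g s, fun i => ?_⟩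
    have : prodw setup.g (Fi23H.enum.sW.getD s []) = setup.g (lm s) := by
      interval_cases s <;> simp [prodw, lm, Fi23H.enum, Fi23H.sW]
    show φ (prodw setup.g (Fi23H.enum.sW.getD s [])) (ι i) = _
    rw [this]
    exact letter_restricts φ hφ φ' hφ' s hs' i
  | one => exact ⟨1, fun i => by simp⟩
  | mul y y' _ _ h h' =>
    obtain ⟨u, hu⟩ := h
    obtain ⟨u', hu'⟩ := h'
    exact ⟨u * u', fun i => by rw [map_mul, map_mul, Equiv.Perm.mul_apply, Equiv.Perm.mul_apply, hu', hu]⟩
  | inv y _ h =>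
    obtain ⟨u, hu⟩ := h
    refine ⟨u⁻¹, fun i => ?_⟩
    rw [map_inv, map_inv, Equiv.Perm.inv_eq_iff_eq, hu, Equiv.Perm.inv_def, Equiv.apply_symm_apply]

theorem zWord_lt : ∀ x ∈ zWord, x < 9 := by decide

theorem zWord_map : ∀ x ∈ zWord.map lm, x < 10 := by decide

theorem zWord_mem_words : zWord ∈ Fi22.setup.words := show zWord ∈ Fi22.words by decide +kernel

theorem z_moves : Nat.beq (walk Fi23H.enum.tb (zWord.map lm) 1) 1 = false := by decide +kernel

include hφ in
theorem z_ne_one : prodw setup.g (zWord.map lm) ≠ 1 := by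
  intro h
  have h1 := hφ _ zWord_map ⟨1, show 1 < 31671 by decide⟩
  rw [h, map_one, inv_one, Equiv.Perm.one_apply] at h1
  have h2 := z_moves
  rw [← h1] at h2
  simp at h2

include hφ hφ' in
theorem z_restricts (i : Fin Fi22H.enum.n) : φ (prodw setup.g (zWord.map lm)) (ι i) = ι i := by
  rw [word_restricts φ hφ φ' hφ' zWord zWord_lt, Fi22.setup.prod_mem _ zWord_mem_words, map_one,
    Equiv.Perm.one_apply]

/-- The action on 31671 cosets, the order, faithfulness, and the map of the point stabiliser onto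
Fi22 with kernel of order two. -/
theorem order_and_action :
    ∃ (φ : setup.Grp →* Equiv.Perm (Fin Fi23H.enum.n))
      (e : setup.Grp ⧸ Fi23H.enum.H ≃ Fin Fi23H.enum.n),
      (∀ (w : List ℕ), (∀ x ∈ w, x < setup.k) → ∀ i : Fin Fi23H.enum.n,
        ((φ (prodw setup.g w))⁻¹ i).val = walk Fi23H.enum.tb w i) ∧
      (∀ (y : setup.Grp) (q : setup.Grp ⧸ Fi23H.enum.H), e (y • q) = φ y (e q)) ∧
      e ((1 : setup.Grp) : setup.Grp ⧸ Fi23H.enum.H) = 0 ∧
      Function.Injective φ ∧ Nat.card setup.Grp = 4089470473293004800 ∧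
      Nat.card Fi23H.enum.H = 2 * 64561751654400 ∧
      ∃ ψ : Fi23H.enum.H →* Cfsg.Spor.Fi22, Function.Surjective ψ ∧ Nat.card ψ.ker = 2 ∧
        ∀ y ∈ ψ.ker, y = 1 ∨ (y : setup.Grp) = prodw setup.g (zWord.map lm) := by
  obtain ⟨φ, e, hφ, he, he0⟩ := Fi23H.action
  obtain ⟨φ', -, hφ', -, -, hinj', hcard'⟩ := Fi22.order_and_action
  have hι := ι_injective
  obtain ⟨hHfin, hHle⟩ := H_finite_and_card_le
  haveI := hHfin
  have hu : ∀ y : Fi23H.enum.H, ∃! u : Fi22.setup.Grp, ∀ i, φ (y : setup.Grp) (ι i) = ι (φ' u i) := by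
    intro y
    obtain ⟨u, hu⟩ := mem_H_restricts φ hφ φ' hφ' y y.2
    exact ⟨u, hu, fun v hv => hinj' (Equiv.ext fun i => hι ((hv i).symm.trans (hu i)))⟩
  let ψ : Fi23H.enum.H →* Fi22.setup.Grp :=
    { toFun := fun y => (hu y).choose
      map_one' := ((hu 1).choose_spec.2 1 fun i => by simp).symm
      map_mul' := fun y y' => ((hu (y * y')).choose_spec.2 _ fun i => by
        rw [Subgroup.coe_mul, map_mul, map_mul, Equiv.Perm.mul_apply, Equiv.Perm.mul_apply,
          (hu y').choose_spec.1, (hu y).choose_spec.1]).symm }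
  have hψspec : ∀ (y : Fi23H.enum.H) (i), φ (y : setup.Grp) (ι i) = ι (φ' (ψ y) i) :=
    fun y => (hu y).choose_spec.1
  have hψeq : ∀ (y : Fi23H.enum.H) u, (∀ i, φ (y : setup.Grp) (ι i) = ι (φ' u i)) → ψ y = u :=
    fun y u h => ((hu y).choose_spec.2 u h).symm
  have hsurj : Function.Surjective ψ := by
    have htop : (⊤ : Subgroup Fi22.setup.Grp) ≤ ψ.range := by
      rw [← Fi22.setup.letSub_all (List.range 9) (fun x hx => List.mem_range.mpr hx)]
      refine (Subgroup.closure_le _).mpr ?_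
      rintro _ ⟨x, hx, rfl⟩
      exact ⟨⟨_, g_mem x (List.mem_range.mp hx)⟩,
        hψeq _ _ (letter_restricts φ hφ φ' hφ' x (List.mem_range.mp hx))⟩
    intro u
    obtain ⟨y, hy⟩ := htop (Subgroup.mem_top u)
    exact ⟨y, hy⟩
  have hzH := prodw_mem zWord zWord_lt
  set z : Fi23H.enum.H := ⟨_, hzH⟩ with hz
  have hz1 : z ≠ 1 := fun h => z_ne_one φ hφ (congrArg Subtype.val h)
  have hzk : z ∈ ψ.ker := by
    rw [MonoidHom.mem_ker]
    exact hψeq _ _ fun i => by
      rw [map_one, Equiv.Perm.one_apply]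
      exact z_restricts φ hφ φ' hφ' i
  have hHcard : Nat.card Fi23H.enum.H = Nat.card ψ.ker * 64561751654400 := by
    rw [Subgroup.card_eq_card_quotient_mul_card_subgroup ψ.ker, mul_comm,
      Nat.card_congr (QuotientGroup.quotientKerEquivOfSurjective ψ hsurj).toEquiv, hcard']
  have hk2 : Nat.card ψ.ker = 2 := by
    have h1 : 2 ≤ Nat.card ψ.ker := by
      haveI : Nontrivial ψ.ker := ⟨⟨z, hzk⟩, 1, fun h => hz1 (congrArg Subtype.val h)⟩
      exact Finite.one_lt_card_iff_nontrivial.mpr inferInstance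
    have h2 : Nat.card ψ.ker * 64561751654400 ≤ 2 * 64561751654400 := le_trans hHcard.ge hHle
    have h3 := Nat.le_of_mul_le_mul_right h2 (by norm_num)
    omega
  have hker : ∀ y ∈ ψ.ker, y = 1 ∨ (y : setup.Grp) = prodw setup.g (zWord.map lm) := by
    intro y hy
    by_cases hy1 : y = 1
    · exact Or.inl hy1
    · obtain ⟨w, hw, huniq⟩ := (Nat.card_eq_two_iff' (1 : ψ.ker)).mp hk2
      have e1 := huniq ⟨y, hy⟩ (fun h => hy1 (congrArg Subtype.val h))
      have e2 := huniq ⟨z, hzk⟩ (fun h => hz1 (congrArg Subtype.val h))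
      exact Or.inr (congrArg (fun v : ψ.ker => ((v : Fi23H.enum.H) : setup.Grp)) (e1.trans e2.symm))
  haveI hq : Finite (setup.Grp ⧸ Fi23H.enum.H) := Finite.of_equiv _ e.symm
  haveI : Finite setup.Grp :=
    Finite.of_equiv _ (Subgroup.groupEquivQuotientProdSubgroup (s := Fi23H.enum.H)).symm
  have hG : Nat.card setup.Grp = 4089470473293004800 := by
    rw [Subgroup.card_eq_card_quotient_mul_card_subgroup Fi23H.enum.H, Nat.card_congr e, Nat.card_fin,
      hHcard, hk2]
    decide +kernel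
  have hinj : Function.Injective φ := by
    rw [injective_iff_map_eq_one]
    intro y hy
    have hyH : y ∈ Fi23H.enum.H := by
      have h1 : e (y • ((1 : setup.Grp) : setup.Grp ⧸ Fi23H.enum.H)) =
          e ((1 : setup.Grp) : setup.Grp ⧸ Fi23H.enum.H) := by
        rw [he, hy, Equiv.Perm.one_apply]
      have h2 := e.injective h1
      rw [MulAction.Quotient.smul_coe, smul_eq_mul, mul_one, QuotientGroup.eq] at h2
      simpa using h2
    have hk : (⟨y, hyH⟩ : Fi23H.enum.H) ∈ ψ.ker := by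
      rw [MonoidHom.mem_ker]
      exact hψeq _ _ fun i => by
        show φ y (ι i) = _
        rw [hy]
        simp
    rcases hker _ hk with h | h
    · exact congrArg Subtype.val h
    · exfalso
      have h' : y = prodw setup.g (zWord.map lm) := h
      have h1 := hφ _ zWord_map ⟨1, show 1 < 31671 by decide⟩
      rw [← h', hy, inv_one, Equiv.Perm.one_apply] at h1
      have h2 := z_moves
      rw [← h1] at h2
      simp at h2
  exact ⟨φ, e, hφ, he, he0, hinj, hG, hk2 ▸ hHcard, ψ, hsurj, hk2, hker⟩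

/-- The order of the presented Fischer group Fi23. -/
theorem card_Fi23 : Nat.card Cfsg.Spor.Fi23 = 4089470473293004800 := by
  obtain ⟨-, -, -, -, -, -, h, -⟩ := order_and_action
  exact h

theorem finite_grp : Finite setup.Grp :=
  Nat.finite_of_card_ne_zero (by
    obtain ⟨-, -, -, -, -, -, h, -⟩ := order_and_action
    rw [h]; norm_num)

end CfsgLib.CosetEnum.Fi23
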